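import Cfsg.Agent.UGT.N2.NodeOf
import Cfsg.Agent.UGT.N2W.PFive
import Cfsg.Agent.UGT.N2W.HonIn

/-!
# N2: `NodeL34w`, no hypotheses
-/

set_option autoImplicit false

open Cfsg Subgroup
open Cfsg.Agent.SignalizersComponents Cfsg.Agent.Lib
open Cfsg.Agent.SignalizersComponents.IntrinsicBasic
open Cfsg.Agent.Intrinsic.Basic Cfsg.Agent.Intrinsic.Cen Cfsg.Agent.Intrinsic.Diag
open Cfsg.Agent.UGT.Triple Cfsg.Agent.UGT.TriBase Cfsg.Agent.UGT.Iface
open Cfsg.Agent.UGT.N2S (TT Typ)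
open scoped commutatorElement

namespace Cfsg.Agent.UGT.N2.NodeEnd

universe u

/-- (5) -/
theorem five : NodeOf.Five.{u} := by
  intro G _ _ A _ hs W F M hW
  exact N2W.PFive.five hs A.bal M hW

/-- (IN1) -/
theorem in1 : NodeOf.InOne.{u} := by
  intro G _ _ hs hN W hon cen x a L T h2
  obtain ⟨t, ht, hne, hta, htx, hf⟩ := h2
  have hb := hon T
  refine N2W.HonIn.in1 hs hN W hon cen x a L T ⟨a, t, ⟨?_, T.comm, ?_, ?_⟩, ⟨?_, htx, ?_, ?_⟩, hne.symm, hta.symm⟩
  · rw [mem_centralizer_iff]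
    intro l hl
    exact (mem_centralizer_singleton_iff.mp (T.comp.le hl)).symm ▸ rfl
  · have := pow_orderOf_eq_one a
    rwa [T.inva, pow_two] at this
  · rintro rfl
    have := T.inva
    rw [orderOf_one] at this
    omega
  · rw [mem_centralizer_iff]
    intro l hl
    have h1 := hf.2 l hl
    rw [hb, mem_bot, commutatorElement_eq_one_iff_mul_comm] at h1
    exact h1.symm
  · have := pow_orderOf_eq_one t
    rwa [ht, pow_two] at this
  · rintro rfl
    rw [orderOf_one] at ht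
    omega

/-- **N2** -/
theorem nodeL34w : Nodes.NodeL34w.{u} :=
  NodeOf.nodeL34w_of five in1

end Cfsg.Agent.UGT.N2.NodeEnd
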