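import Cfsg.Agent.UGT.N2.NodeOf
import Cfsg.Agent.UGT.LTF.Basics
import Cfsg.Agent.UGT.N2W.PFive
import Cfsg.Agent.UGT.N2W.HonIn

/-!
# N2

`nodeL34w : NodeL34w`.
-/

set_option autoImplicit false

open Cfsg Subgroup
open Cfsg.Agent.SignalizersComponents Cfsg.Agent.Lib
open Cfsg.Agent.SignalizersComponents.IntrinsicBasic
open Cfsg.Agent.Intrinsic.Basic Cfsg.Agent.Intrinsic.Cen Cfsg.Agent.Intrinsic.Diag
open Cfsg.Agent.UGT.Triple Cfsg.Agent.UGT.TriBase Cfsg.Agent.UGT.Iface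
open Cfsg.Agent.UGT.N2S (TT Typ)

namespace Cfsg.Agent.UGT.N2.Node

universe u

theorem five : NodeOf.Five.{u} := by
  intro G _ _ A _ hs W 𝓗 M hW
  exact N2W.PFive.five hs A.bal M hW

theorem in1 : NodeOf.InOne.{u} := by
  rintro G _ _ hS hN W hon cen x a L T ⟨t, ot, hne, hta, htx, hf⟩
  have hL : core L = ⊥ := hon T
  have ha := T.inva
  refine N2W.HonIn.in1 hS hN W hon cen x a L T ⟨a, t, ⟨?_, T.comm, ?_, ?_⟩, ⟨?_, htx, ?_, ?_⟩, hne.symm,
    hta.symm⟩
  · rw [mem_centralizer_iff]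
    exact fun l hl => mem_centralizer_singleton_iff.mp (T.comp.le hl)
  · rw [← pow_two, ← ha]
    exact pow_orderOf_eq_one a
  · rintro rfl
    rw [orderOf_one] at ha
    omega
  · rw [mem_centralizer_iff]
    exact fun l hl => (LTF.Basics.comm_of_fixes hL hf hl).symm
  · rw [← pow_two, ← ot]
    exact pow_orderOf_eq_one t
  · rintro rfl
    rw [orderOf_one] at ot
    omega

/-- **N2** -/
theorem nodeL34w : Nodes.NodeL34w.{u} := NodeOf.nodeL34w_of five in1

end Cfsg.Agent.UGT.N2.Node
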