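import Cfsg.Agent.UGT.NodesL34w
import Cfsg.Agent.UGT.Parity
import Cfsg.Agent.UGT.L34T2.MOne
import Cfsg.Agent.UGT.N2S.OutEnd
import Cfsg.Agent.UGT.N2W.Three
import Cfsg.Agent.UGT.N2W.SL
import Cfsg.Agent.UGT.N2W.In2
import Cfsg.Agent.Intrinsic.Functor

/-!
# N2: the assembly of `NodeL34w`

* `Av G`: what is available for every `G`.
* `Missing`: the open pieces, literally: `parts` (STEP 1, (5), CASE A: `N2W.Entr.Parts`), `in1` (`F*(G) = G`, all cores
  trivial).
* `nodeL34w_of`: the assembly; landed inputs: `L34T2.MOne`, `N2S.out34`, `N2W.Entr.Parts.in2`, `N2W.SL.sl`.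
-/

set_option autoImplicit false

open Cfsg Subgroup
open Cfsg.Agent.SignalizersComponents Cfsg.Agent.Lib
open Cfsg.Agent.SignalizersComponents.IntrinsicBasic
open Cfsg.Agent.Intrinsic.Basic Cfsg.Agent.Intrinsic.Cen Cfsg.Agent.Intrinsic.Diag
open Cfsg.Agent.FixBN.BTheorem Cfsg.Agent.FixBN.BRelative
open Cfsg.Agent.UGT.Triple Cfsg.Agent.UGT.TriBase Cfsg.Agent.UGT.Iface
open Cfsg.Agent.UGT.N2S (TT Typ)
open Cfsg.Agent.UGT.Nodes (WorldL34)

namespace Cfsg.Agent.UGT.N2.Skel

universe u

local notation "Fs" => generalizedFittingSubgroup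

/-- a second involution `t ∈ C(x, a)`, trivial on `L / O(L)` -/
def Two {G : Type*} [Group G] (x a : G) (L : Subgroup G) : Prop :=
  ∃ t : G, orderOf t = 2 ∧ t ≠ a ∧ t * a = a * t ∧ t * x = x * t ∧ Fixes t L

/-- What is available for every `G`. -/
structure Av (G : Type u) [Group G] [Finite G] : Prop where
  cex : MinCex G
  world : WorldL34 G
  odd : Intrinsic.Functor.OddSol G
  bal : N2W.Fun.ThreeBal G
  typ : Typ G

theorem av_of {G : Type u} [Group G] [Finite G] (hO : Intrinsic.Functor.OddSol G) (hG : MinCex G) (hW : WorldL34 G) :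
    Av G where
  cex := hG
  world := hW
  odd := hO
  bal := N2W.threeBal_of' hW hO
  typ := fun {x c J} T => hW.types x c J T

/-- The open pieces of N2. -/
structure Missing : Prop where
  /-- STEP 1 (helper374), (5) (helper102), CASE A (helper736) -/
  parts : ∀ (G : Type u) [Group G] [Finite G], Av G → Fs G = ⊤ → IsSimpleGroup G → N2W.Entr.Parts G
  /-- (IN1) helper20: `F*(G) = G`, all cores trivial -/
  in1 : ∀ (G : Type u) [Group G] [Finite G], IsSimpleGroup G → Parity.NoSign G → Typ G →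
    (∀ {x a : G} {L : Subgroup G}, TT x a L → core L = ⊥) →
    (∀ {x a : G} {L : Subgroup G}, TT x a L → core (centralizer ({a} : Set G)) ≤ centralizer (L : Set G)) →
    ∀ (x a : G) (L : Subgroup G), TT x a L → Two x a L → False

/-- **N2** -/
theorem nodeL34w_of (hk : Known.{u}) (hO : ∀ (G : Type u) [Group G] [Finite G], Intrinsic.Functor.OddSol G)
    (M : Missing.{u}) : Nodes.NodeL34w.{u} := by
  intro G _ _ hG hW x a L T h34
  have hA : Av G := av_of (hO G) hG hW
  have hT : TT x a L := ⟨T, h34⟩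
  rcases LSup.dichotomy34 LSup.kf34 hG T h34 with h1 | ⟨h1, -, -⟩
  · have hs : IsSimpleGroup G := by
      have := hG.simple
      rw [h1] at this
      exact (Subgroup.topEquiv (G := G)).symm.isSimpleGroup
    have hN : Parity.NoSign G := by
      intro f
      ext g
      rw [LSup.hom_trivial hG (h1 ▸ mem_top g) f]
      rfl
    have hP := M.parts G hA h1 hs
    have h2 : ∀ {x a : G} {L : Subgroup G}, TT x a L → Two x a L := fun T =>
      L34T2.MOne.two_of_mem hG hW T.toIsTriple T.l34 (h1 ▸ mem_top _)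
    have hsl : ∀ {x a : G} {L : Subgroup G}, TT x a L →
        core L = ⊥ ∧ ∀ l ∈ L, ∀ y ∈ core (centralizer ({a} : Set G)), l * y = y * l := fun T =>
      N2W.SL.sl hA.bal hW T (h2 T) (hP.in2 hs hA.typ hA.bal T (h2 T))
    refine M.in1 G hs hN hA.typ (fun T => (hsl T).1) (fun T y hy => ?_) x a L hT (h2 hT)
    rw [mem_centralizer_iff]
    exact fun l hl => (hsl T).2 l hl y hy
  · rcases L34T2.MOne.mOne hG hW T h34 with ⟨t, ht, hne, hta, htx, hf⟩ | ⟨-, -, -, J, hJ, hJ4, t, ht, hne, hta, htx, hf⟩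
    · exact N2S.out34 hk hG hW T h34 h1 ht hne hta htx hf
    · exact N2S.out34 hk hG hW hJ hJ4 h1 ht hne hta htx hf

end Cfsg.Agent.UGT.N2.Skel
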