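import Cfsg.Agent.S0205
import Cfsg.Agent.FixBN.KnownAll
import Cfsg.Agent.UGT.U2.FOne.Final
import Cfsg.Agent.UGT.HeEnd
import Cfsg.Agent.UGT.N2.Skel
import Cfsg.Agent.UGT.N2W.CommR

/-!
# N2: `NodeL34w` from (5) and (IN1)

* `Five`: (5) of bb #17697 (`W ≠ 1` ⟹ no family of at least two commuting germs over `W`).
* `InOne`: (IN1), all cores trivial.
* `nodeL34w_of`.
-/

set_option autoImplicit false

open Cfsg Subgroup
open Cfsg.Agent.SignalizersComponents Cfsg.Agent.Lib
open Cfsg.Agent.SignalizersComponents.IntrinsicBasic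
open Cfsg.Agent.Intrinsic.Basic Cfsg.Agent.Intrinsic.Cen Cfsg.Agent.Intrinsic.Diag
open Cfsg.Agent.FixBN.BTheorem Cfsg.Agent.FixBN.BRelative
open Cfsg.Agent.UGT.Triple Cfsg.Agent.UGT.TriBase Cfsg.Agent.UGT.Iface
open Cfsg.Agent.UGT.N2S (TT Typ)

namespace Cfsg.Agent.UGT.N2.NodeOf

universe u

local notation "Fs" => generalizedFittingSubgroup

/-- (5), helper102 -/
def Five : Prop := ∀ (G : Type u) [Group G] [Finite G], Skel.Av G → Fs G = ⊤ → IsSimpleGroup G →
  ∀ {W : Subgroup G} {𝓗 : Set (Subgroup G)}, N2W.Many W 𝓗 → W ≠ ⊥ → False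

/-- (IN1), helper20 -/
def InOne : Prop := ∀ (G : Type u) [Group G] [Finite G], IsSimpleGroup G → Parity.NoSign G → Typ G →
  (∀ {x a : G} {L : Subgroup G}, TT x a L → core L = ⊥) →
  (∀ {x a : G} {L : Subgroup G}, TT x a L → core (centralizer ({a} : Set G)) ≤ centralizer (L : Set G)) →
  ∀ (x a : G) (L : Subgroup G), TT x a L → Skel.Two x a L → False

theorem oddSol (G : Type u) [Group G] [Finite G] : Intrinsic.Functor.OddSol G :=
  fun _ hY => S0205.result hY

theorem heK (K : Type u) [Group K] [Finite K] (h : Spor.IsoHe K) : NodeHeG.HF K :=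
  HeEnd.hf_congr h.some.symm HeEnd.hf_he

theorem missing (five : Five.{u}) (in1 : InOne.{u}) : Skel.Missing.{u} where
  parts _ _ _ A ht hs := N2W.CommR.parts U2.FOne.Final.fAll heK A.world A.cex A.bal (five _ A ht hs)
  in1 := in1

/-- **N2** -/
theorem nodeL34w_of (five : Five.{u}) (in1 : InOne.{u}) : Nodes.NodeL34w.{u} :=
  Skel.nodeL34w_of FixBN.KnownAll.known oddSol (missing five in1)

end Cfsg.Agent.UGT.N2.NodeOf
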